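import Cfsg.Agent.SporRec.SuzCl.Inv
import Cfsg.Agent.KFacts.SuzInvol

/-!
# Suzuki group: involutions commuting with elements of odd order (fixed points on 1782 points)

`card_mod`: `|Fix t| ≡ |Fix t ∩ Fix y| mod p` for `y` of order `p` commuting with `t`.
`two_b_of_seven`: an involution commuting with an element of order 7 with at most 4 fixed points is of class 2B.
`outer_claim`: the elements of odd order fixed by an outer involutory automorphism do not all commute with one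
involution.
-/

set_option autoImplicit false
set_option maxRecDepth 100000

namespace Cfsg.Agent.KFacts.SuzLift.Perm

open Cfsg.Spor Cfsg.Agent.SporadicRecognition.SuzPhi Cfsg.Agent.SporadicRecognition.SuzOrder
open Cfsg.Agent.SporRec.SuzCl (R wtr wtr_spec Fx ia ie R_a R_e card_Fx card_Fx_conj cntF_a cntF_e φ_lt eqB eq_of_eqB
  u7 u7_pow u7_comm el_append)
open Cfsg.Agent.KFacts.SuzRho Cfsg.Agent.SporRec.SuzCl

theorem mem_Fx {x : Suz} {q : ℕ} : q ∈ Fx x ↔ q < 1782 ∧ φ x q = q := by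
  unfold Fx
  rw [Finset.mem_filter, Finset.mem_range]

/-- Counting fixed points. -/
theorem card_mod {p : ℕ} (hp : p.Prime) {t y : Suz} (hy : y ^ p = 1) (hc : y * t = t * y) :
    (Fx t).card ≡ (Fx t ∩ Fx y).card [MOD p] := by
  haveI : Fact p.Prime := ⟨hp⟩
  have hf : ∀ q ∈ Fx t, φ y q ∈ Fx t := by
    intro q hq
    rw [mem_Fx] at hq ⊢
    refine ⟨(φ_lt y q).2 hq.1, ?_⟩
    rw [← Equiv.Perm.mul_apply, ← map_mul, ← hc, map_mul, Equiv.Perm.mul_apply, hq.2]
  let f : Function.End {q // q ∈ Fx t} := fun q => ⟨φ y q, hf q q.2⟩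
  have hfn : ∀ (n : ℕ) (q : {q // q ∈ Fx t}), (((f ^ n) q : {q // q ∈ Fx t}) : ℕ) = φ (y ^ n) q := by
    intro n
    induction n with
    | zero => intro q; rw [pow_zero, pow_zero, map_one]; rfl
    | succ n ih =>
      intro q
      rw [pow_succ', pow_succ', map_mul, Equiv.Perm.mul_apply, ← ih q]
      rfl
  have h1 := Equiv.Perm.card_fixedPoints_modEq (f := f) (p := p) (n := 1) (by
    funext q
    apply Subtype.ext
    rw [pow_one, hfn, hy, map_one]; rfl)
  rw [Fintype.card_coe] at h1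
  refine h1.trans ?_
  have h2 : Fintype.card ↥(Function.fixedPoints f) = (Fx t ∩ Fx y).card := by
    rw [← Fintype.card_coe]
    refine Fintype.card_congr ⟨fun q => ⟨q.1.1, ?_⟩, fun q => ⟨⟨q.1, (Finset.mem_inter.1 q.2).1⟩, ?_⟩, ?_, ?_⟩
    · rw [Finset.mem_inter]
      refine ⟨q.1.2, mem_Fx.2 ⟨(mem_Fx.1 q.1.2).1, ?_⟩⟩
      exact congrArg Subtype.val q.2
    · apply Subtype.ext
      exact (mem_Fx.1 (Finset.mem_inter.1 q.2).2).2
    · intro q; rfl
    · intro q; rfl
  rw [h2]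

theorem card_of_two {t : Suz} (h2 : t * t = 1) (h1 : t ≠ 1) :
    ((Fx t).card = 54 ∧ ∃ g, g * ia * g⁻¹ = t) ∨ ((Fx t).card = 42 ∧ ∃ g, g * ie * g⁻¹ = t) := by
  rcases SporRec.SuzCl.two t h2 h1 with ⟨g, hg⟩ | ⟨g, hg⟩
  · left
    refine ⟨?_, g, hg⟩
    rw [← hg, card_Fx_conj, card_Fx R_a, cntF_a]
  · right
    refine ⟨?_, g, hg⟩
    rw [← hg, card_Fx_conj, card_Fx R_e, cntF_e]

/-- An involution commuting with an element of order 7 with at most 4 fixed points is of class 2B. -/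
theorem two_b_of_seven {t y : Suz} (h2 : t * t = 1) (h1 : t ≠ 1) (hy : y ^ 7 = 1) (hc : y * t = t * y)
    (hF : (Fx y).card ≤ 4) : ∃ g, g * ie * g⁻¹ = t := by
  rcases card_of_two h2 h1 with ⟨h, -⟩ | ⟨-, h⟩
  · exfalso
    have h3 := card_mod (by norm_num : Nat.Prime 7) hy hc
    have h4 : (Fx t ∩ Fx y).card ≤ 4 := (Finset.card_le_card Finset.inter_subset_right).trans hF
    rw [h, Nat.ModEq] at h3
    omega
  · exact h

/-! ### Fixed points of words -/

/-- the fixed points of the word are in the list -/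
noncomputable def fixIn (w : List Suz.Gen) (l : List ℕ) (q : ℕ) : Bool := or (not (Nat.beq (wtr w q) q)) (l.any (Nat.beq q))

theorem Fx_sub {w : List Suz.Gen} {l : List ℕ} (h : allPt (fixIn w l) = true) : ∀ q ∈ Fx (el w), q ∈ l := by
  intro q hq
  rw [mem_Fx] at hq
  have h1 := allPt_spec h hq.1
  rw [fixIn, Bool.or_eq_true] at h1
  rcases h1 with h1 | h1
  · exfalso
    have h2 : wtr w q = q := by rw [← (wtr_spec w q hq.1).1]; exact hq.2
    rw [h2, Nat.beq_refl] at h1
    exact absurd h1 (by decide)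
  · rw [List.any_eq_true] at h1
    obtain ⟨x, hx, hx2⟩ := h1
    rw [Nat.eq_of_beq_eq_true hx2]
    exact hx

theorem Fx_card {w : List Suz.Gen} {l : List ℕ} (h : allPt (fixIn w l) = true) : (Fx (el w)).card ≤ l.length := by
  calc (Fx (el w)).card ≤ l.toFinset.card := Finset.card_le_card fun q hq => List.mem_toFinset.2 (Fx_sub h q hq)
    _ ≤ l.length := l.toFinset_card_le

theorem Fx_mem {w : List Suz.Gen} {q : ℕ} (hq : q < 1782) (h : Nat.beq (wtr w q) q = true) : q ∈ Fx (el w) := by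
  rw [mem_Fx]
  refine ⟨hq, ?_⟩
  rw [(wtr_spec w q hq).1]
  exact Nat.eq_of_beq_eq_true h

theorem card_u7 : (Fx u7).card ≤ 4 :=
  Fx_card (w := [.b, .c, .f, .g]) (l := [141, 199, 451, 644]) (by decide +kernel)

theorem card_Fx_el (w : List Suz.Gen) :
    (Fx (el w)).card = cntP (fun i => and (Nat.ble i 1781) (Nat.beq (wtr w i) i)) 11 0 := by
  rw [cntP_eq]
  congr 1
  ext p
  unfold Fx
  rw [Finset.mem_filter, Finset.mem_range, Finset.mem_filter, Finset.mem_Ico, Bool.and_eq_true,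
    Nat.beq_eq]
  constructor
  · rintro ⟨h1, h2⟩
    refine ⟨⟨Nat.zero_le _, by norm_num; omega⟩, Nat.ble_eq_true_of_le (by omega), ?_⟩
    rw [← (wtr_spec w p h1).1]; exact h2
  · rintro ⟨-, h1, h2⟩
    have h3 := Nat.le_of_ble_eq_true h1
    refine ⟨by omega, ?_⟩
    rw [(wtr_spec w p (by omega)).1]; exact h2

/-! ### Three elements -/

def w5 : List Suz.Gen := [.a, .b]
def w7 : List Suz.Gen := [.a, .b, .c, .b, .d, .c, .b, .d, .e]
def w11 : List Suz.Gen := [.c, .e, .b, .d, .e, .f, .g, .c, .d, .c, .e, .d, .b, .d, .e, .f, .g, .c, .d, .c, .e, .d]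

theorem y5_pow : el w5 ^ 5 = 1 := by rw [← el_rp]; exact el_eq_one (by decide +kernel)
theorem y7_pow : el w7 ^ 7 = 1 := by rw [← el_rp]; exact el_eq_one (by decide +kernel)
theorem y11_pow : el w11 ^ 11 = 1 := by rw [← el_rp]; exact el_eq_one (by decide +kernel)

theorem rho_y5 : rho (el w5) = el w5 := rho_el _
theorem rho_y7 : rho (el w7) = el w7 := rho_el _

theorem rho_y11 : (rho * MulAut.conj (PresentedGroup.of Suz.Gen.e) : MulAut Suz) (el w11) = el w11 := by
  rw [MulAut.mul_apply, MulAut.conj_apply, ← el_one, ← SuzThree.Basic.el_reverse, ← SuzThree.Basic.el_append,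
    ← SuzThree.Basic.el_append, rho_el]
  exact SuzThree.Basic.eq_of_reps (SuzThree.Basic.Rep.el _) (SuzThree.Basic.Rep.el _) (by decide +kernel)

theorem fix5 : ∀ q ∈ Fx (el w5), q ∈ [0, 1575] := Fx_sub (by decide +kernel)
theorem fix7 : (Fx (el w7)).card ≤ 4 := Fx_card (l := [0, 1402, 1487, 1575]) (by decide +kernel)
theorem fix7' : ∀ q ∈ [0, 1575], q ∈ Fx (el w7) := by
  intro q hq
  rw [List.mem_cons, List.mem_singleton] at hq
  rcases hq with rfl | rfl
  · exact Fx_mem (by norm_num) (by decide +kernel)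
  · exact Fx_mem (by norm_num) (by decide +kernel)
theorem fix11 : (Fx (el w11)).card = 0 := Nat.le_zero.1 (Fx_card (l := []) (by decide +kernel))

theorem no_five_seven {d : Suz} (h2 : d * d = 1) (h1 : d ≠ 1) (h5 : el w5 * d = d * el w5)
    (h7 : el w7 * d = d * el w7) : False := by
  have c5 := card_mod (by norm_num : Nat.Prime 5) y5_pow h5
  have c7 := card_mod (by norm_num : Nat.Prime 7) y7_pow h7
  have i5 : (Fx d ∩ Fx (el w5)).card ≤ 2 := by
    calc (Fx d ∩ Fx (el w5)).card ≤ ([0, 1575] : List ℕ).toFinset.card :=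
          Finset.card_le_card fun q hq => List.mem_toFinset.2 (fix5 q (Finset.mem_inter.1 hq).2)
      _ ≤ 2 := List.toFinset_card_le _
  have i7 : (Fx d ∩ Fx (el w7)).card ≤ 4 := (Finset.card_le_card Finset.inter_subset_right).trans fix7
  have i57 : (Fx d ∩ Fx (el w5)).card ≤ (Fx d ∩ Fx (el w7)).card := by
    apply Finset.card_le_card
    intro q hq
    rw [Finset.mem_inter] at hq ⊢
    exact ⟨hq.1, fix7' q (fix5 q hq.2)⟩
  rw [Nat.ModEq] at c5 c7
  rcases card_of_two h2 h1 with ⟨h, -⟩ | ⟨h, -⟩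
  · rw [h] at c5
    omega
  · rw [h] at c5 c7
    omega

theorem no_eleven {d : Suz} (h2 : d * d = 1) (h1 : d ≠ 1) (h11 : el w11 * d = d * el w11) : False := by
  have c11 := card_mod (by norm_num : Nat.Prime 11) y11_pow h11
  have i11 : (Fx d ∩ Fx (el w11)).card ≤ 0 := (Finset.card_le_card Finset.inter_subset_right).trans fix11.le
  rw [Nat.ModEq] at c11
  rcases card_of_two h2 h1 with ⟨h, -⟩ | ⟨h, -⟩
  · rw [h] at c11
    omega
  · rw [h] at c11
    omega

/-- **Outer involutory automorphisms**: the fixed elements of odd order do not all commute with an involution. -/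
theorem outer_claim {γ : MulAut Suz} (h2 : γ * γ = 1) (ho : ∀ s, γ ≠ MulAut.conj s) {d : Suz} (d2 : d * d = 1)
    (d1 : d ≠ 1) (h : ∀ (y : Suz) (n : ℕ), Odd n → y ^ n = 1 → γ y = y → y * d = d * y) : False := by
  have key : ∀ (τ : MulAut Suz) (g : Suz), γ = MulAut.conj g * τ * (MulAut.conj g)⁻¹ → ∀ (y : Suz) (n : ℕ), Odd n →
      y ^ n = 1 → τ y = y → y * (g⁻¹ * d * g) = (g⁻¹ * d * g) * y := by
    intro τ g hγ y n hn hy hτ
    have h3 := h (g * y * g⁻¹) n hn (by rw [conj_pow, hy]; group) (by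
      rw [hγ, ← map_inv, MulAut.mul_apply, MulAut.mul_apply, MulAut.conj_apply, MulAut.conj_apply, inv_inv]
      have e : g⁻¹ * (g * y * g⁻¹) * g = y := by group
      rw [e, hτ])
    calc y * (g⁻¹ * d * g) = g⁻¹ * ((g * y * g⁻¹) * d) * g := by group
      _ = g⁻¹ * (d * (g * y * g⁻¹)) * g := by rw [h3]
      _ = (g⁻¹ * d * g) * y := by group
  have e2 : ∀ g : Suz, (g⁻¹ * d * g) * (g⁻¹ * d * g) = 1 := by
    intro g
    calc (g⁻¹ * d * g) * (g⁻¹ * d * g) = g⁻¹ * (d * d) * g := by group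
      _ = 1 := by rw [d2]; group
  have e1 : ∀ g : Suz, g⁻¹ * d * g ≠ 1 := by
    intro g hg
    apply d1
    calc d = g * (g⁻¹ * d * g) * g⁻¹ := by group
      _ = 1 := by rw [hg]; group
  rcases SuzInvol.outer h2 ho with ⟨g, hg⟩ | ⟨g, hg⟩
  · exact no_five_seven (e2 g) (e1 g) (key _ g hg _ 5 (by decide) y5_pow rho_y5)
      (key _ g hg _ 7 (by decide) y7_pow rho_y7)
  · exact no_eleven (e2 g) (e1 g) (key _ g hg _ 11 (by decide) y11_pow rho_y11)

/-! ### Elements `α(x)⁻¹ x` of class 2A -/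

/-- `x` with `e x⁻¹ e x` of class 2A -/
def we : List Suz.Gen := [.d, .c, .d, .e, .d, .c, .d]

theorem dif_e : (ie * el we * ie⁻¹)⁻¹ * el we = el (.e :: (we.reverse ++ (.e :: we))) := by
  have h : ie = el [.e] := (el_one .e).symm
  have h2 : (el [.e])⁻¹ = el [.e] := (SuzThree.Basic.el_reverse [.e]).symm
  have h3 : (el we)⁻¹ = el we.reverse := (SuzThree.Basic.el_reverse we).symm
  calc (ie * el we * ie⁻¹)⁻¹ * el we = ie * ((el we)⁻¹ * (ie⁻¹ * el we)) := by group
    _ = el [.e] * (el we.reverse * (el [.e] * el we)) := by rw [h, h2, h3]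
    _ = _ := by
        rw [← SuzThree.Basic.el_append, ← SuzThree.Basic.el_append, ← SuzThree.Basic.el_append]
        rfl

theorem dif_e_two : ∃ g, g * ia * g⁻¹ = (ie * el we * ie⁻¹)⁻¹ * el we := by
  rw [dif_e]
  have h2 : el (.e :: (we.reverse ++ (.e :: we))) * el (.e :: (we.reverse ++ (.e :: we))) = 1 := by
    rw [← SuzThree.Basic.el_append]
    exact el_eq_one (by decide +kernel)
  have hc : (Fx (el (.e :: (we.reverse ++ (.e :: we))))).card = 54 := by
    rw [card_Fx_el]; decide +kernel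
  have h1 : el (.e :: (we.reverse ++ (.e :: we))) ≠ 1 := by
    intro h
    rw [h] at hc
    have h3 : Fx (1 : Suz) = Finset.range 1782 := by
      ext q
      rw [mem_Fx, Finset.mem_range, map_one]
      exact ⟨fun h => h.1, fun h => ⟨h, rfl⟩⟩
    rw [h3, Finset.card_range] at hc
    omega
  rcases card_of_two h2 h1 with ⟨-, h⟩ | ⟨h, -⟩
  · exact h
  · omega

theorem dif_rho : (rho (el [.f, .g]))⁻¹ * el [.f, .g] = ia := by
  rw [rho_el, ← SuzThree.Basic.el_reverse, ← SuzThree.Basic.el_append]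
  show _ = el [.a]
  exact SuzThree.Basic.eq_of_reps (SuzThree.Basic.Rep.el _) (SuzThree.Basic.Rep.el _) (by decide +kernel)

theorem dif_rhoe : ((rho * MulAut.conj (PresentedGroup.of Suz.Gen.e) : MulAut Suz) (el [.f, .g]))⁻¹ * el [.f, .g] = ia := by
  rw [MulAut.mul_apply, MulAut.conj_apply, ← el_one, ← SuzThree.Basic.el_reverse, ← SuzThree.Basic.el_append,
    ← SuzThree.Basic.el_append, rho_el, ← SuzThree.Basic.el_reverse, ← SuzThree.Basic.el_append]
  show _ = el [.a]
  exact SuzThree.Basic.eq_of_reps (SuzThree.Basic.Rep.el _) (SuzThree.Basic.Rep.el _) (by decide +kernel)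

end Cfsg.Agent.KFacts.SuzLift.Perm
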