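import Cfsg.Agent.KFacts.OddLift.SuzCov
import Cfsg.Agent.KFacts.SuzLift.FouEAll
import Cfsg.Agent.KFacts.MulDef
import Cfsg.Agent.SporRec.SuzCl.Inv

/-!
# Perfect double covers of the Suzuki group: the lifts of the elements of class 2B have order 4

`Dbl π c`, `π : L → Suz`. If the lifts of `e` were involutions, one more relator would hold between the odd lifts of the
letters `b 0, …, b 3` (which generate `J₂`), and the chain of coset enumerations would give `|L| ≤ |Suz|`.
-/

set_option autoImplicit false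
set_option maxRecDepth 100000

namespace Cfsg.Agent.KFacts.SuzLift.Sq

open Cfsg Cfsg.Spor Cfsg.Agent.KFacts.OddLift.Basic Cfsg.Agent.KFacts.OddLift.SuzLet
open Cfsg.Agent.KFacts.OddLift.SuzRel Cfsg.Agent.KFacts.OddLift.SuzCov Cfsg.Agent.KFacts.MulDef
open Cfsg.Agent.SporadicRecognition.CosetCert Cfsg.Agent.SporadicRecognition.CosetCertHyp

universe u

variable {L : Type u} [Group L] {π : L →* Suz} {c : L}

/-- a perfect double cover is a perfect central extension by a 2-group -/
theorem cov (hD : Dbl π c) : Cov π where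
  surj := hD.surj
  central := by
    intro x hx
    rw [Subgroup.mem_center_iff]
    intro g
    rcases (hD.ker x).1 hx with rfl | rfl
    · rw [one_mul, mul_one]
    · exact (hD.cen g).symm
  two := by
    rintro ⟨x, hx⟩
    refine ⟨1, Subtype.ext ?_⟩
    show x ^ 2 ^ 1 = 1
    rw [pow_one, pow_two]
    rcases (hD.ker x).1 hx with rfl | rfl
    · rw [one_mul]
    · exact hD.sq
  perfect := hD.perf

/-- the kernel has order 2 -/
theorem not_card_ker_le_one (hD : Dbl π c) (h : Finite L ∧ Nat.card π.ker ≤ 1) : False := by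
  have := h.1
  have h1 : (c : L) ∈ π.ker := (hD.ker c).2 (Or.inr rfl)
  have h2 : Subsingleton π.ker := (Finite.card_le_one_iff_subsingleton).1 h.2
  have h3 : (⟨c, h1⟩ : π.ker) = 1 := Subsingleton.elim _ _
  exact hD.ne (congrArg Subtype.val h3)

/-- If the word for `e` in the odd lifts of the letters is an involution then the kernel is trivial. -/
theorem false_of_word (h : Cov π) {B : ℕ → L} (hB : ∀ i, π (B i) = b i) (hBo : ∀ i, Odd (orderOf (B i)))
    (he : ev (lt B 6) (gw .e) * ev (lt B 6) (gw .e) = 1) : Finite L ∧ Nat.card π.ker ≤ 1 := by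
  have hno : ∀ u ∈ ([] : List (List ℕ)), Odd (orderOf (ev (lt b 6) u)) := fun u hu => by simp at hu
  have e1 : B 0 ^ 3 = 1 := by
    refine h.eq_of_odd (odd_pow (hBo 0) 3) (by rw [orderOf_one]; exact odd_one) ?_
    rw [map_pow, hB, b_cube, map_one]
  have s1 := base (B := B) (by norm_num : 0 < 3) e1
  have s2 := step OddLift.SuzTwoData.C OddLift.SuzTwoData.rels OddLift.SuzTwoData.subw (n := 2) (m := 1) (k := 6)
    (by norm_num) (by decide +kernel) (h.rels_eq_one hB hBo hno (by decide +kernel) rels_two)
    OddLift.SuzTwoAll.part s1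
  have s3 := step OddLift.SuzThrData.C OddLift.SuzThrData.rels OddLift.SuzThrData.subw (n := 3) (m := 2) (k := 6)
    (by norm_num) (by decide +kernel) (h.rels_eq_one hB hBo hno (by decide +kernel) rels_thr)
    OddLift.SuzThrAll.part s2
  have h4 : ∀ r ∈ FouEData.rels, ev (lt B 6) r = 1 := by
    intro r hr
    have h0 : (FouEData.rels.all fun r => OddLift.SuzFouData.rels.contains r || r == gw .e ++ gw .e) = true := by
      decide +kernel
    have h1 := List.all_eq_true.1 h0 r hr
    rw [Bool.or_eq_true, beq_iff_eq] at h1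
    rcases h1 with h1 | h1
    · exact h.rels_eq_one hB hBo hno (by decide +kernel) rels_fou r (List.contains_iff_mem.1 h1)
    · rw [h1, ev_append]
      exact he
  have s4 := step FouEData.C FouEData.rels FouEData.subw (n := 4) (m := 3) (k := 6) (by norm_num)
    (by decide +kernel) h4 FouEAll.part s3
  have s5 := step OddLift.SuzFivData.C OddLift.SuzFivData.rels OddLift.SuzFivData.subw (n := 5) (m := 4) (k := 6)
    (by norm_num) (by decide +kernel) (h.rels_eq_one hB hBo hno (by decide +kernel) rels_fiv)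
    OddLift.SuzFivAll.part s4
  have h6 : ∀ r ∈ OddLift.SuzSixData.rels, ev (lt B 6) r = 1 := by
    intro r hr
    have h0 : (OddLift.SuzSixData.rels.all fun r => okr [] r || r == ws.flatten) = true := by decide +kernel
    have h1 := List.all_eq_true.1 h0 r hr
    rw [Bool.or_eq_true, beq_iff_eq] at h1
    rcases h1 with h1 | h1
    · exact h.ev_eq_one hB hBo hno h1 (rels_six r hr)
    · rw [h1]
      exact h.prod_eq_one hB hBo rels_comms okProd_ws (by rw [← h1]; exact rels_six r hr)
  have s6 := step OddLift.SuzSixData.C OddLift.SuzSixData.rels OddLift.SuzSixData.subw (n := 6) (m := 5) (k := 6)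
    (by norm_num) (by decide +kernel) h6 OddLift.SuzSixAll.part s5
  have hX : Nat.card Suz = 448345497600 := S1694.result.2
  exact h.card_ker_le hB clo_six (by rw [hX]; norm_num) ⟨s6.1, s6.2.trans (by rw [hX])⟩

/-- the square of a lift does not depend on the lift -/
theorem sq_lift (hD : Dbl π c) {x y : L} (h : π x = π y) : x * x = y * y := by
  have h1 : π (x * y⁻¹) = 1 := by rw [map_mul, map_inv, h, mul_inv_cancel]
  rcases (hD.ker _).1 h1 with h2 | h2
  · rw [mul_inv_eq_one] at h2; rw [h2]
  · rw [mul_inv_eq_iff_eq_mul] at h2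
    rw [h2, mul_assoc, ← mul_assoc y c y, ← hD.cen y, mul_assoc c y y, ← mul_assoc c c, hD.sq, one_mul]

/-- the squares of the lifts of conjugate involutions -/
theorem sq_conj (hD : Dbl π c) {x y : L} {g : Suz} (h : π x = g * π y * g⁻¹) (hy : π y * π y = 1) :
    x * x = y * y := by
  obtain ⟨k, rfl⟩ := hD.surj g
  have h1 : π x = π (k * y * k⁻¹) := by rw [h, map_mul, map_mul, map_inv]
  rw [sq_lift hD h1]
  have h2 : k * y * k⁻¹ * (k * y * k⁻¹) = k * (y * y) * k⁻¹ := by group
  rw [h2]
  have h3 : π (y * y) = 1 := by rw [map_mul, hy]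
  rcases (hD.ker _).1 h3 with h4 | h4
  · rw [h4]; group
  · rw [h4, ← hD.cen k]; group

/-- **The lifts of the elements of class 2B have square `c`.** -/
theorem sq_of_e (hD : Dbl π c) {x : L} {g : Suz} (h : π x = g * SporRec.SuzCl.ie * g⁻¹) : x * x = c := by
  have hee : SporRec.SuzCl.ie * SporRec.SuzCl.ie = (1 : Suz) := SporRec.SuzCl.ee
  have h0 : π (x * x) = 1 := by
    rw [map_mul, h]
    calc g * SporRec.SuzCl.ie * g⁻¹ * (g * SporRec.SuzCl.ie * g⁻¹)
        = g * (SporRec.SuzCl.ie * SporRec.SuzCl.ie) * g⁻¹ := by group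
      _ = 1 := by rw [hee]; group
  rcases (hD.ker _).1 h0 with h1 | h1
  · exfalso
    obtain ⟨B, hB, hBo⟩ := (cov hD).exists_lifts b_odd
    have h2 : π (ev (lt B 6) (gw .e)) = SporRec.SuzCl.ie := by
      rw [Cov.map_word hB]
      exact (ev_gw (all_lt (by decide +kernel)) gw_e).symm
    refine not_card_ker_le_one hD (false_of_word (cov hD) hB hBo ?_)
    rw [← h1]
    refine (sq_conj hD (g := g) ?_ ?_).symm
    · rw [h2]; exact h
    · rw [h2]; exact hee
  · exact h1

end Cfsg.Agent.KFacts.SuzLift.Sq
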