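import Cfsg.Agent.KFacts.SuzLift.Sq
import Cfsg.Agent.KFacts.SuzY
import Cfsg.Agent.KFacts.SuzOut
import Cfsg.Agent.OddHalf.D9.OuterOf

/-!
# Perfect double covers of the Suzuki group: the lifts of the involutions of class 2A are involutions

`comm_lift`: a lift of `z0` commutes with the lifts of the elements of `C(z0)` (which is perfect).
`sq_of_a`: the lifts of the conjugates of `a` have square 1. `sq_one`/`sq_eq`: the two signs together.
-/

set_option autoImplicit false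
set_option maxRecDepth 100000

namespace Cfsg.Agent.KFacts.SuzLift.Two

open Cfsg Cfsg.Spor Cfsg.Agent.KFacts.MulDef Cfsg.Agent.KFacts.SuzLift.Sq
open Cfsg.Agent.SuzThree.CentA Cfsg.Agent.SuzThree.QZero

universe u

variable {L : Type u} [Group L] {π : L →* Suz} {c : L}

theorem ker_central (hD : Dbl π c) (k : L) (hk : π k = 1) : ∀ y, k * y = y * k := by
  intro y
  rcases (hD.ker k).1 hk with rfl | rfl
  · rw [one_mul, mul_one]
  · exact hD.cen y

/-- A lift of `z0` commutes with the lifts of the elements of `C(z0)`. -/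
theorem comm_lift (hD : Dbl π c) {x y : L} (hx : π x = z0) (hy : π y * z0 = z0 * π y) : x * y = y * x := by
  have hyC : π y ∈ C1 := mem_C1.2 hy
  obtain ⟨D, hDD, hDX⟩ := OddHalf.D9.OuterOf.exists_perfect_lift π hD.surj (ker_central hD) SuzR.perfect'
  have h1 := OddHalf.D9.OuterOf.eq_of_central hDD (MulAut.conj x).toMonoidHom (MonoidHom.id L) (fun d hd => by
    apply ker_central hD
    have hdC : π d ∈ C1 := by rw [← hDX]; exact ⟨d, hd, rfl⟩
    have h2 := mem_C1.1 hdC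
    change π (d⁻¹ * (x * d * x⁻¹)) = 1
    rw [map_mul, map_mul, map_mul, map_inv, map_inv, hx]
    calc (π d)⁻¹ * (z0 * π d * z0⁻¹) = (π d)⁻¹ * (π d * z0 * z0⁻¹) := by rw [h2]
      _ = 1 := by group)
  have hy' : π y ∈ D.map π := by rw [hDX]; exact hyC
  obtain ⟨d, hd, hdy⟩ := hy'
  have h3 : x * d * x⁻¹ = d := h1 d hd
  have h4 : x * d = d * x := by
    calc x * d = (x * d * x⁻¹) * x := by group
      _ = d * x := by rw [h3]
  have h5 : ∀ g, (d⁻¹ * y) * g = g * (d⁻¹ * y) := by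
    apply ker_central hD
    rw [map_mul, map_inv, hdy, inv_mul_cancel]
  calc x * y = x * d * (d⁻¹ * y) := by group
    _ = d * (x * (d⁻¹ * y)) := by rw [h4]; group
    _ = d * ((d⁻¹ * y) * x) := by rw [h5 x]
    _ = y * x := by group

/-- the lifts of `a` are involutions -/
theorem sq_z0 (hD : Dbl π c) {x : L} (hx : π x = z0) : x * x = 1 := by
  have haa : z0 * z0 = (1 : Suz) := by rw [SuzY.z0_eq]; exact SporRec.SuzCl.aa
  obtain ⟨n, hn⟩ := hD.surj SuzOut.n0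
  have hy : π (n * x * n⁻¹) = SuzOut.n0 * z0 * SuzOut.n0⁻¹ := by
    rw [map_mul, map_mul, map_inv, hn, hx]
  have hC : SuzOut.n0 * z0 * SuzOut.n0⁻¹ ∈ C1 := Q0_le SuzOut.n0_in
  have hcm : x * (n * x * n⁻¹) = (n * x * n⁻¹) * x := comm_lift hD hx (by rw [hy]; exact mem_C1.1 hC)
  obtain ⟨g, hg⟩ := SporRec.SuzCl.comm z0 (SuzOut.n0 * z0 * SuzOut.n0⁻¹) ⟨1, by rw [SuzY.z0_eq]; group⟩
    ⟨SuzOut.n0, by rw [SuzY.z0_eq]⟩ (fun h => SuzOut.n0_ne h.symm) (mem_C1.1 hC).symm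
  have h1 : (n * x * n⁻¹) * (n * x * n⁻¹) = x * x :=
    sq_conj hD (g := SuzOut.n0) (by rw [hy, hx]) (by rw [hx]; exact haa)
  have h2 : (x * (n * x * n⁻¹)) * (x * (n * x * n⁻¹)) = x * x :=
    sq_conj hD (g := g) (by rw [map_mul, hy, hx, ← hg, SuzY.z0_eq]) (by rw [hx]; exact haa)
  have h3 : (x * (n * x * n⁻¹)) * (x * (n * x * n⁻¹)) = (x * x) * ((n * x * n⁻¹) * (n * x * n⁻¹)) := by
    calc (x * (n * x * n⁻¹)) * (x * (n * x * n⁻¹))
        = x * ((n * x * n⁻¹) * x) * (n * x * n⁻¹) := by group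
      _ = x * (x * (n * x * n⁻¹)) * (n * x * n⁻¹) := by rw [hcm]
      _ = _ := by group
  rw [h1, h2] at h3
  exact (mul_eq_left.1 h3.symm)

/-- **The lifts of the elements of class 2A are involutions.** -/
theorem sq_of_a (hD : Dbl π c) {x : L} {g : Suz} (h : π x = g * SporRec.SuzCl.ia * g⁻¹) : x * x = 1 := by
  obtain ⟨y, hy⟩ := hD.surj z0
  rw [sq_conj hD (y := y) (g := g) (by rw [h, hy, SuzY.z0_eq]) (by
    rw [hy, SuzY.z0_eq]; exact SporRec.SuzCl.aa)]
  exact sq_z0 hD hy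

theorem sq_e (hD : Dbl π c) {x : L} (h : π x = SporRec.SuzCl.ie) : x * x = c :=
  sq_of_e hD (g := 1) (by rw [h]; group)

theorem sq_a (hD : Dbl π c) {x : L} (h : π x = SporRec.SuzCl.ia) : x * x = 1 :=
  sq_of_a hD (g := 1) (by rw [h]; group)

/-- an element with `π x` an involution: `x * x = 1` iff `π x` is of class 2A -/
theorem sq_cases (hD : Dbl π c) {x : L} (h2 : π x * π x = 1) (h1 : π x ≠ 1) :
    (x * x = 1 ∧ ∃ g, g * SporRec.SuzCl.ia * g⁻¹ = π x) ∨ (x * x = c ∧ ∃ g, g * SporRec.SuzCl.ie * g⁻¹ = π x) := by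
  rcases SporRec.SuzCl.two (π x) h2 h1 with ⟨g, hg⟩ | ⟨g, hg⟩
  · exact Or.inl ⟨sq_of_a hD hg.symm, g, hg⟩
  · exact Or.inr ⟨sq_of_e hD hg.symm, g, hg⟩

end Cfsg.Agent.KFacts.SuzLift.Two
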